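import Cfsg.Agent.H613.Ly5.Cyclic
import Cfsg.Agent.Ly.Setup
import Cfsg.Agent.TypeM.FactsLy
import Cfsg.Agent.H393.Iso.McLLy

/-!
# Elements of order 31 of the Lyons group are self-centralizing (helper613, (Ly, 5) of S5003)

An element `x` of order 31 of the point stabilizer `G₂(5)` of the rank five permutation representation fixes no further
point (the two-point stabilizers have orders 300000, 6048, 2880, 1008), so `C(x) ≤ G₂(5)`. As a 7 × 7 matrix over the
field of five elements it has a cyclic vector, and a matrix `y` commuting with it satisfies `y ^ 125 = y`. So only the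
primes 2 and 31 divide `|C(x)|`, and 2 does not, as 31 does not divide `|C(t)| = |2.A₁₁|` for an involution `t`.
-/

set_option autoImplicit false
set_option maxRecDepth 100000

namespace Cfsg.Agent.H613.Ly5.ThirtyOne

open Cfsg Subgroup Matrix
open Cfsg.Agent.Ly.Mat7 Cfsg.Agent.Ly.Pres Cfsg.Agent.Ly.CoverCore Cfsg.Agent.Ly.Cover Cfsg.Agent.Ly.Cent
open Cfsg.Agent.Ly.Setup (psi w cover psi_injective Hs exact' card_Hs card_ly finite_ly w_zero map_eq card_map)
open Cfsg.Agent.H393.Iso (NA na_of_mt)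

instance fact5 : Fact (Nat.Prime 5) := ⟨Nat.prime_five⟩
instance fact31 : Fact (Nat.Prime 31) := ⟨by norm_num⟩

/-- the word -/
def wX : List ℕ := [0, 3, 2]

/-- its matrix -/
def Xm : Matrix (Fin 7) (Fin 7) (ZMod 5) :=
  !![0, 0, 0, 0, 0, 1, 4; 0, 0, 0, 0, 0, 4, 4; 0, 0, 2, 1, 2, 0, 3; 0, 0, 3, 0, 2, 1, 1; 0, 0, 2, 4, 2, 1, 4;
    3, 2, 3, 4, 1, 4, 3; 2, 2, 1, 0, 1, 2, 4]

/-- the columns are `X ^ j e₀` -/
def Pm : Matrix (Fin 7) (Fin 7) (ZMod 5) :=
  !![1, 0, 1, 4, 0, 0, 4; 0, 0, 0, 3, 3, 2, 3; 0, 0, 1, 1, 3, 1, 2; 0, 0, 0, 2, 1, 4, 4; 0, 0, 1, 3, 1, 2, 1;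
    0, 3, 3, 1, 4, 3, 4; 0, 2, 4, 1, 4, 4, 4]

/-- the inverse of `Pm` -/
def Qm : Matrix (Fin 7) (Fin 7) (ZMod 5) :=
  !![1, 4, 2, 1, 4, 4, 4; 0, 4, 1, 2, 4, 4, 2; 0, 2, 1, 2, 2, 4, 4; 0, 0, 2, 4, 4, 2, 2; 0, 3, 2, 2, 1, 1, 1;
    0, 2, 0, 0, 2, 4, 4; 0, 1, 1, 4, 2, 1, 1]

theorem PQ : Pm * Qm = 1 := by decide +kernel

theorem col_zero : (fun i => Pm i 0) = (Pi.single 0 1 : Fin 7 → ZMod 5) := by decide +kernel

theorem col_succ : ∀ j : Fin 6, (Xm.mulVec fun i => Pm i j.castSucc) = fun i => Pm i j.succ := by decide +kernel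

theorem hu (j : Fin 7) : (fun i => Pm i j) = (Xm ^ (j : ℕ)).mulVec (Pi.single 0 1) := by
  induction j using Fin.induction with
  | zero => rw [col_zero, Fin.val_zero, pow_zero, one_mulVec]
  | succ j ih =>
    rw [← col_succ j, ih, mulVec_mulVec, Fin.val_succ, pow_succ']
    rfl

/-- the code of the matrix -/
def XC : ℕ := 0x4000200010000000100020002000300040001000400030002000300040001000200040002000000000001000100020000000300000000000300000002000100020000000000040004000000000000000000000004000100000000000000000000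

theorem XC_eq : evalW wX = XC := by decide +kernel

theorem XC_mat : toM XC = Xm := by
  ext i j
  fin_cases i <;> fin_cases j <;> decide +kernel

theorem X_coe : ((ev gen wX : GL (Fin 7) (ZMod 5)) : Matrix (Fin 7) (Fin 7) (ZMod 5)) = Xm := by
  have h : Rep (evalW wX) (ev gen wX) := rep_evalW wX
  rw [XC_eq] at h
  exact h.2.trans XC_mat

theorem ev_replicate {G : Type*} [Group G] (x : Fin 4 → G) (v : List ℕ) (n : ℕ) :
    ev x (List.replicate n v).flatten = (ev x v) ^ n := by
  induction n with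
  | zero => rw [List.replicate_zero, List.flatten_nil, ev_nil, pow_zero]
  | succ n ih => rw [List.replicate_succ, List.flatten_cons, ev_append, ih, pow_succ']

theorem X_pow : (ev gen wX) ^ 31 = 1 := by
  rw [← ev_replicate]
  exact word_eq (v := (List.replicate 31 wX).flatten) (w := []) (by decide +kernel)

theorem X_ne : ev gen wX ≠ 1 := by
  intro h
  have h1 := X_coe
  rw [h, Units.val_one] at h1
  have h2 := congrFun (congrFun h1 0) 0
  revert h2
  decide +kernel

/-- the element of order 31 of `G₂(5)` -/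
def X : Hhat := ⟨ev gen wX, ev_mem_Hhat wX⟩

theorem orderOf_X : orderOf X = 31 := by
  rw [← Subgroup.orderOf_coe]
  exact orderOf_eq_prime X_pow X_ne

/-- **the commutant** -/
theorem pow_124 {y : Hhat} (hy : y * X = X * y) : y ^ 124 = 1 := by
  have h1 : ((y : GL (Fin 7) (ZMod 5)) : Matrix (Fin 7) (Fin 7) (ZMod 5)) * Xm = Xm * (y : GL (Fin 7) (ZMod 5)) := by
    have h2 := congrArg (fun z : Hhat => (((z : GL (Fin 7) (ZMod 5)) : Matrix (Fin 7) (Fin 7) (ZMod 5)))) hy
    have h3 : (((X : Hhat) : GL (Fin 7) (ZMod 5)) : Matrix (Fin 7) (Fin 7) (ZMod 5)) = Xm := X_coe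
    simp only [Subgroup.coe_mul, Units.val_mul, h3] at h2
    exact h2
  have h4 : Xm ^ (5 ^ 3) = Xm := by
    have h5 : (ev gen wX) ^ (31 * 4 + 1) = ev gen wX := by
      rw [pow_succ, pow_mul, X_pow, one_pow, one_mul]
    have h6 := congrArg (fun z : GL (Fin 7) (ZMod 5) => (z : Matrix (Fin 7) (Fin 7) (ZMod 5))) h5
    simp only [Units.val_pow_eq_pow_val, X_coe] at h6
    have e1 : (5 : ℕ) ^ 3 = 31 * 4 + 1 := by norm_num
    rw [e1]
    exact h6
  have h7 := Cyclic.pow_eq (p := 5) Xm Pm Qm _ (Pi.single 0 1) hu PQ h1 h4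
  have e2 : (5 : ℕ) ^ 3 = 124 + 1 := by norm_num
  rw [e2] at h7
  have h8 : (y : GL (Fin 7) (ZMod 5)) ^ (124 + 1) = y := by
    apply Units.ext
    rw [Units.val_pow_eq_pow_val]
    exact h7
  apply Subtype.ext
  rw [SubgroupClass.coe_pow, Subgroup.coe_one]
  have h9 : (y : GL (Fin 7) (ZMod 5)) ^ 124 * y = 1 * y := by rw [← pow_succ, one_mul, h8]
  exact mul_right_cancel h9

theorem nn_dvd : ∀ i : Fin 5, i ≠ 0 → ¬ 31 ∣ nn i := by
  intro i hi
  fin_cases i
  · exact absurd rfl hi
  all_goals simp only [nn]; decide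

/-- the centralizer lies in `G₂(5)` -/
theorem mem_range {x g : Spor.Ly} (hx : x ∈ psi.range) (hx31 : orderOf x = 31) (hg : g * x = x * g) :
    g ∈ psi.range := by
  have hfin := finite_ly
  obtain ⟨i, h1, hh1, h2, hh2, rfl⟩ := cover g
  by_cases hi : i = 0
  · subst hi
    rw [w_zero, mul_one]
    exact Subgroup.mul_mem _ hh1 hh2
  · exfalso
    obtain ⟨e1, e2⟩ := exact' i
    set k : Spor.Ly := h1⁻¹ * x * h1 with hk
    have hkH : k ∈ psi.range := Subgroup.mul_mem _ (Subgroup.mul_mem _ (Subgroup.inv_mem _ hh1) hx) hh1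
    have hkw : k ∈ psi.range.map (MulAut.conj (w i)).toMonoidHom := by
      refine ⟨h2 * x * h2⁻¹, Subgroup.mul_mem _ (Subgroup.mul_mem _ hh2 hx) (Subgroup.inv_mem _ hh2), ?_⟩
      show w i * (h2 * x * h2⁻¹) * (w i)⁻¹ = k
      have h3 : (h1 * w i * h2) * x * (h1 * w i * h2)⁻¹ = x := by rw [hg]; group
      have h4 : w i * (h2 * x * h2⁻¹) * (w i)⁻¹ = h1⁻¹ * ((h1 * w i * h2) * x * (h1 * w i * h2)⁻¹) * h1 := by group
      rw [h4, h3]
    have hkm : k ∈ (Hs i).map psi := by
      rw [e1]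
      exact ⟨hkH, hkw⟩
    have hko : orderOf k = 31 := by
      rw [← hx31, hk]
      have h5 : h1⁻¹ * x * h1 = MulAut.conj h1⁻¹ x := by simp
      rw [h5]
      exact orderOf_injective (MulAut.conj h1⁻¹).toMonoidHom (MulAut.conj h1⁻¹).injective x
    have h6 := orderOf_dvd_natCard (⟨k, hkm⟩ : (Hs i).map psi)
    rw [Subgroup.orderOf_mk, hko, e2] at h6
    exact nn_dvd i hi h6

/-- the model -/
theorem card_X : Nat.card (centralizer ({psi X} : Set Spor.Ly)) = 31 := by
  have hfin := finite_ly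
  have hX : orderOf (psi X) = 31 := by rw [orderOf_injective psi psi_injective, orderOf_X]
  obtain ⟨L⟩ := TypeM.FactsLy.exists_mt_ly
  have hna : NA 31 Spor.Ly := na_of_mt (by norm_num) (by norm_num) (by norm_num) L
  have h1 : 31 ∣ Nat.card (centralizer ({psi X} : Set Spor.Ly)) := by
    have := orderOf_dvd_natCard (⟨psi X, mem_centralizer_singleton_iff.2 rfl⟩ : centralizer ({psi X} : Set Spor.Ly))
    rwa [Subgroup.orderOf_mk, hX] at this
  have h2 : ∀ q : ℕ, q.Prime → q ∣ Nat.card (centralizer ({psi X} : Set Spor.Ly)) → q = 31 := by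
    intro q hq hd
    have : Fact q.Prime := ⟨hq⟩
    obtain ⟨⟨z, hz⟩, hzq⟩ := exists_prime_orderOf_dvd_card' q hd
    rw [Subgroup.orderOf_mk] at hzq
    have hzx : z * psi X = psi X * z := mem_centralizer_singleton_iff.1 hz
    obtain ⟨y, rfl⟩ := mem_range ⟨X, rfl⟩ hX hzx
    have hy : y * X = X * y := by
      apply psi_injective
      rw [map_mul, map_mul, hzx]
    have h3 := pow_124 hy
    have h4 : q ∣ 124 := by
      rw [← hzq, orderOf_injective psi psi_injective]
      exact orderOf_dvd_of_pow_eq_one h3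
    rw [show (124 : ℕ) = 2 ^ 2 * 31 by norm_num] at h4
    rcases hq.dvd_mul.1 h4 with h5 | h5
    · exfalso
      have h6 := (Nat.prime_dvd_prime_iff_eq hq Nat.prime_two).1 (hq.dvd_of_dvd_pow h5)
      exact hna (psi X) (psi y) hX (by rw [hzq, h6]) hzx.symm
    · exact (Nat.prime_dvd_prime_iff_eq hq (by norm_num)).1 h5
  have h3 : ¬ 31 ^ 2 ∣ Nat.card (centralizer ({psi X} : Set Spor.Ly)) := by
    intro h
    have h4 := h.trans (card_subgroup_dvd_card _)
    rw [card_ly] at h4
    norm_num at h4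
  obtain ⟨m, hm⟩ := h1
  have h4 : m = 1 := by
    by_contra hne
    obtain ⟨q, hq, hqm⟩ := Nat.exists_prime_and_dvd hne
    have h5 := h2 q hq (by rw [hm]; exact hqm.mul_left _)
    subst h5
    apply h3
    rw [hm, pow_two]
    exact Nat.mul_dvd_mul_left 31 hqm
  rw [hm, h4, mul_one]

/-- **Elements of order 31 of the Lyons group are self-centralizing.** -/
theorem card_centralizer31 {G : Type*} [Group G] [Finite G] (h : Spor.IsoLy G) {x : G} (hx : orderOf x = 31) :
    Nat.card (centralizer ({x} : Set G)) = 31 := by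
  obtain ⟨e⟩ := h
  have hfin := finite_ly
  -- transport to the model
  set y : Spor.Ly := e x with hy
  have hyo : orderOf y = 31 := by
    rw [hy, ← hx]
    exact orderOf_injective e.toMonoidHom e.injective x
  have hcard : Nat.card (centralizer ({x} : Set G)) = Nat.card (centralizer ({y} : Set Spor.Ly)) := by
    refine Nat.card_congr ((e.toEquiv.subtypeEquiv fun g => ?_))
    show g ∈ centralizer ({x} : Set G) ↔ e g ∈ centralizer ({y} : Set Spor.Ly)
    rw [mem_centralizer_singleton_iff, mem_centralizer_singleton_iff, hy, ← map_mul, ← map_mul]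
    exact (e.injective.eq_iff).symm
  rw [hcard]
  have hX : orderOf (psi X) = 31 := by rw [orderOf_injective psi psi_injective, orderOf_X]
  -- Sylow
  have hcen : ∀ z : Spor.Ly, Nat.card (centralizer ({z} : Set Spor.Ly)) = Nat.card (centralizer (zpowers z : Set Spor.Ly)) := by
    intro z
    congr 2
    ext g
    rw [mem_centralizer_singleton_iff, Subgroup.mem_centralizer_iff]
    constructor
    · rintro hg _ ⟨i, rfl⟩
      exact (((show Commute g z from hg).zpow_right i).eq).symm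
    · intro hg
      exact (hg z (mem_zpowers z)).symm
  have hsq : ∀ z : Spor.Ly, orderOf z = 31 → ∃ P : Sylow 31 Spor.Ly, (P : Subgroup Spor.Ly) = zpowers z := by
    intro z hz
    have hf : (Nat.card Spor.Ly).factorization 31 = 1 := by
      rw [card_ly]
      apply le_antisymm
      · by_contra hlt
        rw [not_le] at hlt
        have h1 := ((show Nat.Prime 31 by norm_num).pow_dvd_iff_le_factorization (by norm_num)).2 hlt
        norm_num at h1
      · exact ((show Nat.Prime 31 by norm_num).pow_dvd_iff_le_factorization (by norm_num)).1 (by norm_num)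
    exact ⟨Sylow.ofCard (zpowers z) (by rw [Nat.card_zpowers, hz, hf, pow_one]), rfl⟩
  obtain ⟨P, hP⟩ := hsq y hyo
  obtain ⟨Q, hQ⟩ := hsq (psi X) hX
  obtain ⟨g, hg⟩ := MulAction.exists_smul_eq Spor.Ly P Q
  have h1 : (zpowers y).map (MulAut.conj g).toMonoidHom = zpowers (psi X) := by
    rw [← hP, ← hQ, ← hg]
    rfl
  rw [hcen y, ← card_X, hcen (psi X), ← h1]
  refine Nat.card_congr ((MulAut.conj g).toEquiv.subtypeEquiv fun a => ?_)
  show a ∈ centralizer (zpowers y : Set Spor.Ly) ↔ MulAut.conj g a ∈ centralizer (((zpowers y).map (MulAut.conj g).toMonoidHom : Subgroup Spor.Ly) : Set Spor.Ly)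
  rw [Subgroup.mem_centralizer_iff, Subgroup.mem_centralizer_iff]
  constructor
  · rintro ha _ ⟨b, hb, rfl⟩
    show MulAut.conj g b * MulAut.conj g a = MulAut.conj g a * MulAut.conj g b
    rw [← map_mul, ← map_mul, ha b hb]
  · intro ha b hb
    have h2 := ha (MulAut.conj g b) ⟨b, hb, rfl⟩
    rw [← map_mul, ← map_mul] at h2
    exact (MulAut.conj g).injective h2

end Cfsg.Agent.H613.Ly5.ThirtyOne
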