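import Mathlib.FieldTheory.Finite.Basic
import Mathlib.LinearAlgebra.Matrix.ToLin
import Mathlib.Algebra.Polynomial.AlgebraMap

/-!
# The commutant of a cyclic matrix (helper613, (Ly, 5))

`exists_aeval` : a matrix commuting with a matrix `X` which has a cyclic vector is a polynomial in `X`.
`pow_card` : over `ZMod p` it satisfies `Y ^ (p ^ k) = Y` as soon as `X ^ (p ^ k) = X`.
-/

set_option autoImplicit false

namespace Cfsg.Agent.H613.Ly5.Cyclic

open Matrix Polynomial

variable {n : ℕ} {R : Type*} [CommRing R]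

/-- A matrix commuting with a cyclic matrix is a polynomial in it. -/
theorem exists_aeval (X P Q Y : Matrix (Fin n) (Fin n) R) (u : Fin n → R)
    (hu : ∀ j : Fin n, (fun i => P i j) = (X ^ (j : ℕ)).mulVec u) (hPQ : P * Q = 1) (hXY : Y * X = X * Y) :
    ∃ p : R[X], Y = aeval X p := by
  set c : Fin n → R := Q.mulVec (Y.mulVec u) with hc
  refine ⟨∑ j : Fin n, Polynomial.C (c j) * Polynomial.X ^ (j : ℕ), ?_⟩
  set Z : Matrix (Fin n) (Fin n) R := aeval X (∑ j : Fin n, Polynomial.C (c j) * Polynomial.X ^ (j : ℕ)) with hZ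
  have hZs : Z = ∑ j : Fin n, c j • X ^ (j : ℕ) := by
    rw [hZ, map_sum]
    refine Finset.sum_congr rfl fun j _ => ?_
    rw [map_mul, aeval_C, map_pow, aeval_X, Algebra.smul_def]
  have hZu : Z.mulVec u = Y.mulVec u := by
    have h1 : P.mulVec c = Y.mulVec u := by rw [hc, mulVec_mulVec, hPQ, one_mulVec]
    rw [← h1, hZs]
    funext i
    rw [sum_mulVec, Finset.sum_apply]
    simp only [mulVec, dotProduct]
    refine Finset.sum_congr rfl fun j _ => ?_
    have h2 := congrFun (hu j) i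
    simp only [mulVec, dotProduct] at h2
    rw [h2, Finset.sum_mul]
    refine Finset.sum_congr rfl fun k _ => ?_
    rw [Matrix.smul_apply, smul_eq_mul]
    ring
  have hZX : ∀ k : ℕ, Z * X ^ k = X ^ k * Z := by
    intro k
    have h1 : Commute X Z := by
      rw [hZ]
      have h2 : X = aeval X (Polynomial.X : R[X]) := (aeval_X X).symm
      nth_rewrite 1 [h2]
      exact (Commute.all _ _).map (aeval X)
    exact ((h1.pow_left k).symm).eq
  have hYX : ∀ k : ℕ, Y * X ^ k = X ^ k * Y := fun k => ((show Commute Y X from hXY).pow_right k).eq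
  have h3 : Y * P = Z * P := by
    ext i j
    have h4 : (Y * P) i j = (Y.mulVec (fun i => P i j)) i := rfl
    have h5 : (Z * P) i j = (Z.mulVec (fun i => P i j)) i := rfl
    rw [h4, h5, hu j, mulVec_mulVec, mulVec_mulVec, hYX, hZX, ← mulVec_mulVec, ← mulVec_mulVec, hZu]
  calc Y = Y * P * Q := by rw [Matrix.mul_assoc, hPQ, Matrix.mul_one]
    _ = Z := by rw [h3, Matrix.mul_assoc, hPQ, Matrix.mul_one]

/-- the Frobenius map -/
theorem pow_frob {p : ℕ} [Fact p.Prime] {A : Type*} [Ring A] [Algebra (ZMod p) A] (X : A) (f : (ZMod p)[X]) (k : ℕ) :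
    (aeval X f) ^ (p ^ k) = aeval (X ^ (p ^ k)) f := by
  induction k with
  | zero => simp
  | succ k ih =>
    rw [pow_succ, pow_mul, ih, ← map_pow, ← ZMod.expand_card, expand_aeval, ← pow_mul]

/-- a matrix commuting with a cyclic matrix `X` with `X ^ q = X` satisfies the same equation (`q` a power of `p`) -/
theorem pow_eq {p : ℕ} [Fact p.Prime] (X P Q Y : Matrix (Fin n) (Fin n) (ZMod p)) (u : Fin n → ZMod p)
    (hu : ∀ j : Fin n, (fun i => P i j) = (X ^ (j : ℕ)).mulVec u) (hPQ : P * Q = 1) (hXY : Y * X = X * Y)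
    {k : ℕ} (hX : X ^ (p ^ k) = X) : Y ^ (p ^ k) = Y := by
  obtain ⟨f, rfl⟩ := exists_aeval X P Q Y u hu hPQ hXY
  rw [pow_frob, hX]

end Cfsg.Agent.H613.Ly5.Cyclic
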